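import Mathlib
import Cfsg.Agent.Lib.Helper15.Spinor
import Cfsg.Agent.Lib.Helper15.CD2
import Cfsg.Agent.Lib.Helper15.OrthGen

set_option autoImplicit false

namespace Cfsg.Agent.Lib.Helper15.Dickson

open Module Matrix Cfsg.Agent.Lib.Helper15.Spinor Cfsg.Agent.Lib.Helper15.CD2

section Mat

variable {F : Type*} [Field F] {ι : Type} [Fintype ι] [DecidableEq ι]

omit [DecidableEq ι] in
/-- In characteristic two the trace of an alternating matrix times a symmetric matrix vanishes. -/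
theorem trace_alt_symm [CharP F 2] (P S : Matrix ι ι F) (hP : Pᵀ = P) (hP0 : ∀ i, P i i = 0)
    (hS : Sᵀ = S) : (P * S).trace = 0 := by
  have e : (P * S).trace = ∑ p ∈ (Finset.univ : Finset (ι × ι)), P p.1 p.2 * S p.2 p.1 := by
    rw [← Finset.univ_product_univ, Finset.sum_product]
    rfl
  rw [e]
  apply Finset.sum_involution (fun p _ => (p.2, p.1))
  · intro p _
    have h1 : P p.2 p.1 = P p.1 p.2 := congrFun (congrFun hP p.1) p.2
    have h2 : S p.1 p.2 = S p.2 p.1 := (congrFun (congrFun hS p.1) p.2).symm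
    change P p.1 p.2 * S p.2 p.1 + P p.2 p.1 * S p.1 p.2 = 0
    rw [h1, h2]
    exact CharTwo.add_self_eq_zero _
  · intro p _ hne heq
    apply hne
    have h12 : p.2 = p.1 := congrArg Prod.fst heq
    rw [h12, hP0, zero_mul]
  · intro p _
    exact Finset.mem_univ _
  · intro p _
    rfl

omit [DecidableEq ι] in
/-- Well-definedness of the half trace. -/
theorem trace_eq_of_add_transpose [CharP F 2] (P U₁ U₂ : Matrix ι ι F) (hP : Pᵀ = P)
    (hP0 : ∀ i, P i i = 0) (h : U₁ + U₁ᵀ = U₂ + U₂ᵀ) : (P * U₁).trace = (P * U₂).trace := by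
  have h2 : (2 : F) = 0 := CharTwo.two_eq_zero
  have hS : (U₁ + U₂)ᵀ = U₁ + U₂ := by
    ext i j
    have hij := congrFun (congrFun h i) j
    simp only [Matrix.add_apply, Matrix.transpose_apply] at hij ⊢
    linear_combination hij + (U₂ j i - U₁ i j) * h2
  have h0 := trace_alt_symm P (U₁ + U₂) hP hP0 hS
  rw [Matrix.mul_add, Matrix.trace_add] at h0
  exact CharTwo.add_eq_zero.1 h0

omit [Fintype ι] [DecidableEq ι] in
theorem mat_add_self [CharP F 2] (X : Matrix ι ι F) : X + X = 0 := by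
  ext i j
  exact CharTwo.add_self_eq_zero _

/-- Matrices are determined by their bilinear forms. -/
theorem mat_eq_of_bilin (M N : Matrix ι ι F) (h : ∀ x y : ι → F, x ⬝ᵥ M *ᵥ y = x ⬝ᵥ N *ᵥ y) :
    M = N := by
  ext i j
  have hij := h (Pi.single i 1) (Pi.single j 1)
  rw [single_one_dotProduct, single_one_dotProduct, Matrix.mulVec_single_one,
    Matrix.mulVec_single_one] at hij
  exact hij

omit [DecidableEq ι] in
theorem dot_conj (G M : Matrix ι ι F) (x y : ι → F) :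
    x ⬝ᵥ (Gᵀ * M * G) *ᵥ y = (G *ᵥ x) ⬝ᵥ M *ᵥ (G *ᵥ y) := by
  rw [Matrix.mul_assoc, ← Matrix.mulVec_mulVec, ← Matrix.mulVec_mulVec, Matrix.dotProduct_mulVec,
    Matrix.vecMul_transpose]

variable [LinearOrder ι]

/-- The strictly upper triangular part of a matrix. -/
def upper (C : Matrix ι ι F) : Matrix ι ι F := Matrix.of fun i j => if i < j then C i j else 0

omit [Fintype ι] [DecidableEq ι] in
theorem upper_add_transpose (C : Matrix ι ι F) (hs : Cᵀ = C) (hd : ∀ i, C i i = 0) :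
    upper C + (upper C)ᵀ = C := by
  ext i j
  simp only [Matrix.add_apply, Matrix.transpose_apply, upper, Matrix.of_apply]
  rcases lt_trichotomy i j with h | h | h
  · rw [if_pos h, if_neg (not_lt_of_gt h), add_zero]
  · subst h
    simp [hd]
  · rw [if_neg (not_lt_of_gt h), if_pos h, zero_add]
    exact congrFun (congrFun hs i) j

/-- The half trace defining the Dickson invariant. -/
def dk (A P G : Matrix ι ι F) : F := (P * upper (Gᵀ * A * G + A)).trace

omit [DecidableEq ι] in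
theorem upper_spec [CharP F 2] (A G : Matrix ι ι F)
    (hB : Gᵀ * (A + Aᵀ) * G = A + Aᵀ) (hd : ∀ i, (Gᵀ * A * G) i i = A i i) :
    upper (Gᵀ * A * G + A) + (upper (Gᵀ * A * G + A))ᵀ = Gᵀ * A * G + A := by
  apply upper_add_transpose
  · have h0 : (Gᵀ * A * G + A) + (Gᵀ * A * G + A)ᵀ = 0 := by
      have e : (Gᵀ * A * G + A) + (Gᵀ * A * G + A)ᵀ = Gᵀ * (A + Aᵀ) * G + (A + Aᵀ) := by
        simp only [Matrix.transpose_add, Matrix.transpose_mul, Matrix.transpose_transpose,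
          Matrix.mul_add, Matrix.add_mul, Matrix.mul_assoc]
        abel
      rw [e, hB, mat_add_self]
    ext i j
    have hij := congrFun (congrFun h0 i) j
    simp only [Matrix.add_apply, Matrix.zero_apply] at hij
    exact (CharTwo.add_eq_zero.1 hij).symm
  · intro i
    rw [Matrix.add_apply, hd]
    exact CharTwo.add_self_eq_zero _

omit [DecidableEq ι] in
theorem dk_eq [CharP F 2] (A P G U : Matrix ι ι F) (hP : Pᵀ = P) (hP0 : ∀ i, P i i = 0)
    (hB : Gᵀ * (A + Aᵀ) * G = A + Aᵀ) (hd : ∀ i, (Gᵀ * A * G) i i = A i i)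
    (hU : U + Uᵀ = Gᵀ * A * G + A) : dk A P G = (P * U).trace := by
  unfold dk
  apply trace_eq_of_add_transpose P _ _ hP hP0
  rw [hU]
  exact upper_spec A G hB hd

end Mat

section Iso

variable {F : Type*} [Field F] {ι : Type} [Fintype ι] [DecidableEq ι]

omit [DecidableEq ι] in
/-- The polar form in terms of a matrix of the quadratic form. -/
theorem polar_eq (Q : QuadraticForm F (ι → F)) (A : Matrix ι ι F)
    (hA : ∀ x, Q x = x ⬝ᵥ A *ᵥ x) (x y : ι → F) :
    QuadraticMap.polar ⇑Q x y = x ⬝ᵥ (A + Aᵀ) *ᵥ y := by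
  have e : x ⬝ᵥ Aᵀ *ᵥ y = y ⬝ᵥ A *ᵥ x := by
    rw [Matrix.dotProduct_mulVec, Matrix.vecMul_transpose, dotProduct_comm]
  unfold QuadraticMap.polar
  rw [hA, hA, hA, Matrix.add_mulVec, dotProduct_add, e]
  simp only [Matrix.mulVec_add, add_dotProduct, dotProduct_add]
  ring

theorem conj_B (Q : QuadraticForm F (ι → F)) (A : Matrix ι ι F)
    (hA : ∀ x, Q x = x ⬝ᵥ A *ᵥ x) (g : ↥(Cfsg.isometryGroup F ⇑Q)) :
    ((g : Matrix.GeneralLinearGroup ι F) : Matrix ι ι F)ᵀ * (A + Aᵀ)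
      * ((g : Matrix.GeneralLinearGroup ι F) : Matrix ι ι F) = A + Aᵀ := by
  apply mat_eq_of_bilin
  intro x y
  rw [dot_conj, ← polar_eq Q A hA, ← polar_eq Q A hA, iso_polar]

theorem conj_diag (Q : QuadraticForm F (ι → F)) (A : Matrix ι ι F)
    (hA : ∀ x, Q x = x ⬝ᵥ A *ᵥ x) (g : ↥(Cfsg.isometryGroup F ⇑Q)) (i : ι) :
    (((g : Matrix.GeneralLinearGroup ι F) : Matrix ι ι F)ᵀ * A
      * ((g : Matrix.GeneralLinearGroup ι F) : Matrix ι ι F)) i i = A i i := by
  have h := dot_conj ((g : Matrix.GeneralLinearGroup ι F) : Matrix ι ι F) A (Pi.single i 1)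
    (Pi.single i 1)
  rw [single_one_dotProduct, Matrix.mulVec_single_one, ← hA, iso_apply, hA,
    single_one_dotProduct, Matrix.mulVec_single_one] at h
  exact h

omit [Fintype ι] [DecidableEq ι] in
theorem B_symm (A : Matrix ι ι F) : (A + Aᵀ)ᵀ = A + Aᵀ := by
  rw [Matrix.transpose_add, Matrix.transpose_transpose, add_comm]

theorem P_symm (A P : Matrix ι ι F) (hBP : (A + Aᵀ) * P = 1) (hPB : P * (A + Aᵀ) = 1) :
    Pᵀ = P := by
  calc Pᵀ = Pᵀ * ((A + Aᵀ) * P) := by rw [hBP, Matrix.mul_one]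
    _ = ((A + Aᵀ) * P)ᵀ * P := by
      rw [Matrix.transpose_mul, B_symm, Matrix.mul_assoc]
    _ = P := by rw [hBP, Matrix.transpose_one, Matrix.one_mul]

theorem P_diag [CharP F 2] (Q : QuadraticForm F (ι → F)) (A P : Matrix ι ι F)
    (hA : ∀ x, Q x = x ⬝ᵥ A *ᵥ x) (hBP : (A + Aᵀ) * P = 1) (hPB : P * (A + Aᵀ) = 1) (i : ι) :
    P i i = 0 := by
  have e : P = Pᵀ * (A + Aᵀ) * P := by
    rw [P_symm A P hBP hPB, hPB, Matrix.one_mul]
  have h := dot_conj P (A + Aᵀ) (Pi.single i 1) (Pi.single i 1)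
  rw [← e, single_one_dotProduct, Matrix.mulVec_single_one, ← polar_eq Q A hA, polar_self0] at h
  exact h

theorem conj_P (Q : QuadraticForm F (ι → F)) (A P : Matrix ι ι F)
    (hA : ∀ x, Q x = x ⬝ᵥ A *ᵥ x) (hBP : (A + Aᵀ) * P = 1) (hPB : P * (A + Aᵀ) = 1)
    (g : ↥(Cfsg.isometryGroup F ⇑Q)) :
    ((g : Matrix.GeneralLinearGroup ι F) : Matrix ι ι F) * P
      * ((g : Matrix.GeneralLinearGroup ι F) : Matrix ι ι F)ᵀ = P := by
  obtain ⟨H, hH⟩ : ∃ H, H = ((g : Matrix.GeneralLinearGroup ι F) : Matrix ι ι F) := ⟨_, rfl⟩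
  obtain ⟨H', hH'⟩ : ∃ H', H' = (((g⁻¹ : ↥(Cfsg.isometryGroup F ⇑Q)) :
      Matrix.GeneralLinearGroup ι F) : Matrix ι ι F) := ⟨_, rfl⟩
  have hHH' : H * H' = 1 := by
    rw [hH, hH', ← coe_mul, mul_inv_cancel, coe_one]
  have h1 : Hᵀ * (A + Aᵀ) * H = A + Aᵀ := by
    rw [hH]
    exact conj_B Q A hA g
  rw [← hH]
  have e1 : Hᵀ * (A + Aᵀ) = (A + Aᵀ) * H' := by
    calc Hᵀ * (A + Aᵀ) = Hᵀ * (A + Aᵀ) * (H * H') := by rw [hHH', Matrix.mul_one]
      _ = (Hᵀ * (A + Aᵀ) * H) * H' := by simp only [Matrix.mul_assoc]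
      _ = (A + Aᵀ) * H' := by rw [h1]
  calc H * P * Hᵀ = H * P * Hᵀ * ((A + Aᵀ) * P) := by rw [hBP, Matrix.mul_one]
    _ = H * P * (Hᵀ * (A + Aᵀ)) * P := by simp only [Matrix.mul_assoc]
    _ = H * P * ((A + Aᵀ) * H') * P := by rw [e1]
    _ = H * (P * (A + Aᵀ)) * H' * P := by simp only [Matrix.mul_assoc]
    _ = P := by rw [hPB, Matrix.mul_one, hHH', Matrix.one_mul]

variable [LinearOrder ι]

theorem dk_mul [CharP F 2] (Q : QuadraticForm F (ι → F)) (A P : Matrix ι ι F)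
    (hA : ∀ x, Q x = x ⬝ᵥ A *ᵥ x) (hBP : (A + Aᵀ) * P = 1) (hPB : P * (A + Aᵀ) = 1)
    (g h : ↥(Cfsg.isometryGroup F ⇑Q)) :
    dk A P (((g * h : ↥(Cfsg.isometryGroup F ⇑Q)) : Matrix.GeneralLinearGroup ι F) : Matrix ι ι F)
      = dk A P ((g : Matrix.GeneralLinearGroup ι F) : Matrix ι ι F)
        + dk A P ((h : Matrix.GeneralLinearGroup ι F) : Matrix ι ι F) := by
  have hPs := P_symm A P hBP hPB
  have hPd := P_diag Q A P hA hBP hPB
  have hBgh := conj_B Q A hA (g * h)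
  have hdgh := conj_diag Q A hA (g * h)
  have hcP := conj_P Q A P hA hBP hPB h
  have hUg := upper_spec A _ (conj_B Q A hA g) (conj_diag Q A hA g)
  have hUh := upper_spec A _ (conj_B Q A hA h) (conj_diag Q A hA h)
  rw [coe_mul] at hBgh hdgh ⊢
  obtain ⟨G, hG⟩ : ∃ G, G = ((g : Matrix.GeneralLinearGroup ι F) : Matrix ι ι F) := ⟨_, rfl⟩
  obtain ⟨H, hH⟩ : ∃ H, H = ((h : Matrix.GeneralLinearGroup ι F) : Matrix ι ι F) := ⟨_, rfl⟩
  rw [← hG, ← hH] at hBgh hdgh ⊢
  rw [← hG] at hUg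
  rw [← hH] at hUh hcP
  obtain ⟨Ug, hUgdef⟩ : ∃ Ug, Ug = upper (Gᵀ * A * G + A) := ⟨_, rfl⟩
  obtain ⟨Uh, hUhdef⟩ : ∃ Uh, Uh = upper (Hᵀ * A * H + A) := ⟨_, rfl⟩
  rw [← hUgdef] at hUg
  rw [← hUhdef] at hUh
  have hU : (Hᵀ * Ug * H + Uh) + (Hᵀ * Ug * H + Uh)ᵀ = (G * H)ᵀ * A * (G * H) + A := by
    have e1 : (Hᵀ * Ug * H + Uh) + (Hᵀ * Ug * H + Uh)ᵀ
        = Hᵀ * (Ug + Ugᵀ) * H + (Uh + Uhᵀ) := by
      simp only [Matrix.transpose_add, Matrix.transpose_mul, Matrix.transpose_transpose,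
        Matrix.mul_add, Matrix.add_mul, Matrix.mul_assoc]
      abel
    have e2 : Hᵀ * (Gᵀ * A * G + A) * H + (Hᵀ * A * H + A)
        = (G * H)ᵀ * A * (G * H) + A + (Hᵀ * A * H + Hᵀ * A * H) := by
      simp only [Matrix.transpose_mul, Matrix.mul_add, Matrix.add_mul, Matrix.mul_assoc]
      abel
    rw [e1, hUg, hUh, e2, mat_add_self, add_zero]
  rw [dk_eq A P (G * H) _ hPs hPd hBgh hdgh hU, Matrix.mul_add, Matrix.trace_add]
  have e3 : (P * (Hᵀ * Ug * H)).trace = (P * Ug).trace := by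
    have e4 : P * (Hᵀ * Ug * H) = (P * Hᵀ * Ug) * H := by simp only [Matrix.mul_assoc]
    have e5 : H * (P * Hᵀ * Ug) = (H * P * Hᵀ) * Ug := by simp only [Matrix.mul_assoc]
    rw [e4, Matrix.trace_mul_comm, e5, hcP]
  rw [e3]
  unfold dk
  rw [← hUgdef, ← hUhdef]

omit [LinearOrder ι] in
theorem polarVec_eq (Q : QuadraticForm F (ι → F)) (A : Matrix ι ι F)
    (hA : ∀ x, Q x = x ⬝ᵥ A *ᵥ x) (u : ι → F) : Cfsg.polarVec ⇑Q u = (A + Aᵀ) *ᵥ u := by
  funext j
  have h := polar_eq Q A hA (Pi.single j 1) u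
  rw [single_one_dotProduct] at h
  rw [← h, QuadraticMap.polar_comm]
  rfl

omit [Fintype ι] [DecidableEq ι] [LinearOrder ι] in
theorem refl_field_id (c Qu s p p' q fy : F) (hc : c * Qu = 1) (h2 : (2 : F) = 0) :
    c * (p + p') * q + c * p * fy
      = (s - (c * fy) * p' - (c * (p + p')) * q + (c * (p + p')) * (c * fy) * Qu) + s := by
  linear_combination (c * (p + p') * q - s) * h2 + (-(c * fy * (p + p'))) * hc

theorem dk_refl [CharP F 2] (Q : QuadraticForm F (ι → F)) (A P : Matrix ι ι F)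
    (hA : ∀ x, Q x = x ⬝ᵥ A *ᵥ x) (hBP : (A + Aᵀ) * P = 1) (hPB : P * (A + Aᵀ) = 1)
    (u : ι → F) (hu : Q u ≠ 0) :
    dk A P ((reflO Q u : Matrix.GeneralLinearGroup ι F) : Matrix ι ι F) = 1 := by
  have h2 : (2 : F) = 0 := CharTwo.two_eq_zero
  have hPs := P_symm A P hBP hPB
  have hPd := P_diag Q A P hA hBP hPB
  have hB := conj_B Q A hA (reflO Q u)
  have hd := conj_diag Q A hA (reflO Q u)
  rw [coe_reflO Q u hu] at hB hd ⊢
  obtain ⟨R, hR⟩ : ∃ R, R = Cfsg.reflectionMatrix ⇑Q u := ⟨_, rfl⟩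
  rw [← hR] at hB hd ⊢
  have hRx : ∀ x, R *ᵥ x = x - ((Q u)⁻¹ * QuadraticMap.polar ⇑Q u x) • u := by
    intro x
    rw [hR, refl_mulVec]
  obtain ⟨w, hw⟩ : ∃ w, w = Cfsg.polarVec ⇑Q u := ⟨_, rfl⟩
  obtain ⟨a, ha⟩ : ∃ a, a = Aᵀ *ᵥ u := ⟨_, rfl⟩
  have hay : ∀ y, a ⬝ᵥ y = u ⬝ᵥ A *ᵥ y := by
    intro y
    rw [ha, Matrix.dotProduct_mulVec, Matrix.mulVec_transpose]
  have hwy : ∀ y, w ⬝ᵥ y = u ⬝ᵥ A *ᵥ y + y ⬝ᵥ A *ᵥ u := by
    intro y
    rw [hw, polarVec_eq Q A hA, dotProduct_comm, Matrix.add_mulVec, dotProduct_add,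
      Matrix.dotProduct_mulVec y Aᵀ, Matrix.vecMul_transpose, add_comm, dotProduct_comm]
  have hpol : ∀ y, QuadraticMap.polar ⇑Q u y = u ⬝ᵥ A *ᵥ y + y ⬝ᵥ A *ᵥ u := by
    intro y
    rw [polar_eq Q A hA, Matrix.add_mulVec, dotProduct_add, Matrix.dotProduct_mulVec u Aᵀ,
      Matrix.vecMul_transpose, dotProduct_comm (A *ᵥ u)]
  have hvv : ∀ (b d x y : ι → F), x ⬝ᵥ (Matrix.vecMulVec b d) *ᵥ y = (x ⬝ᵥ b) * (d ⬝ᵥ y) := by
    intro b d x y
    rw [Matrix.vecMulVec_mulVec, op_smul_eq_smul, dotProduct_smul, smul_eq_mul, mul_comm]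
  have hU : ((Q u)⁻¹ • Matrix.vecMulVec w a) + ((Q u)⁻¹ • Matrix.vecMulVec w a)ᵀ
      = Rᵀ * A * R + A := by
    apply mat_eq_of_bilin
    intro x y
    rw [Matrix.add_mulVec, dotProduct_add, Matrix.add_mulVec, dotProduct_add, dot_conj,
      Matrix.transpose_smul, Matrix.transpose_vecMulVec, Matrix.smul_mulVec, Matrix.smul_mulVec,
      dotProduct_smul, dotProduct_smul, hvv, hvv, hRx, hRx]
    simp only [Matrix.mulVec_sub, Matrix.mulVec_smul, sub_dotProduct, dotProduct_sub,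
      smul_dotProduct, dotProduct_smul, smul_eq_mul]
    rw [hay, dotProduct_comm x w, hwy, dotProduct_comm x a, hay, hwy, hpol, hpol, ← hA u]
    have hc : (Q u)⁻¹ * Q u = 1 := inv_mul_cancel₀ hu
    have key := refl_field_id (Q u)⁻¹ (Q u) (x ⬝ᵥ A *ᵥ y) (u ⬝ᵥ A *ᵥ x) (x ⬝ᵥ A *ᵥ u)
      (u ⬝ᵥ A *ᵥ y) (u ⬝ᵥ A *ᵥ y + y ⬝ᵥ A *ᵥ u) hc h2
    linear_combination key
  rw [dk_eq A P R _ hPs hPd hB hd hU, Matrix.mul_smul, Matrix.trace_smul, Matrix.mul_vecMulVec,
    Matrix.trace_vecMulVec, hw, polarVec_eq Q A hA, Matrix.mulVec_mulVec, hPB, Matrix.one_mulVec,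
    dotProduct_comm, hay, ← hA, smul_eq_mul, inv_mul_cancel₀ hu]

end Iso

section Hom

variable {F : Type*} [Field F] {ι : Type} [Fintype ι]

/-- Every quadratic form on `F^ι` is given by a matrix. -/
theorem exists_matrix (Q : QuadraticForm F (ι → F)) :
    ∃ A : Matrix ι ι F, ∀ x, Q x = x ⬝ᵥ A *ᵥ x := by
  classical
  letI : LinearOrder ι := LinearOrder.lift' (Fintype.equivFin ι) (Fintype.equivFin ι).injective
  refine ⟨LinearMap.BilinForm.toMatrix' (Q.toBilin (Pi.basisFun F ι)), fun x => ?_⟩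
  rw [← Matrix.toBilin'_apply', Matrix.toBilin'_toMatrix']
  have h := QuadraticMap.toQuadraticMap_toBilin Q (Pi.basisFun F ι)
  conv_lhs => rw [← h]
  rfl

variable [DecidableEq ι]

theorem exists_inv (Q : QuadraticForm F (ι → F))
    (hnd : ∀ x, (∀ y, QuadraticMap.polar ⇑Q x y = 0) → x = 0) (A : Matrix ι ι F)
    (hA : ∀ x, Q x = x ⬝ᵥ A *ᵥ x) : ∃ P : Matrix ι ι F, (A + Aᵀ) * P = 1 ∧ P * (A + Aᵀ) = 1 := by
  have hinj : Function.Injective (A + Aᵀ).mulVec := by
    intro y y' hyy'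
    have h0 : y - y' = 0 := by
      apply hnd
      intro x
      rw [QuadraticMap.polar_comm, polar_eq Q A hA, Matrix.mulVec_sub, hyy', sub_self,
        dotProduct_zero]
    exact sub_eq_zero.1 h0
  obtain ⟨u, hu⟩ := Matrix.mulVec_injective_iff_isUnit.1 hinj
  refine ⟨↑u⁻¹, ?_, ?_⟩
  · rw [← hu]
    exact u.mul_inv
  · rw [← hu]
    exact u.inv_mul

/-- **The Dickson invariant**: in characteristic two there is a homomorphism from the isometry
group of a quadratic form with non-degenerate polar form to the additive group of the field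
which takes the value `1` on every reflection. -/
theorem exists_dickson [CharP F 2] (Q : QuadraticForm F (ι → F))
    (hnd : ∀ x, (∀ y, QuadraticMap.polar ⇑Q x y = 0) → x = 0) :
    ∃ D : ↥(Cfsg.isometryGroup F ⇑Q) →* Multiplicative F,
      ∀ u, Q u ≠ 0 → D (reflO Q u) = Multiplicative.ofAdd 1 := by
  classical
  letI : LinearOrder ι := LinearOrder.lift' (Fintype.equivFin ι) (Fintype.equivFin ι).injective
  obtain ⟨A, hA⟩ := exists_matrix Q
  obtain ⟨P, hBP, hPB⟩ := exists_inv Q hnd A hA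
  refine ⟨MonoidHom.mk' (fun g => Multiplicative.ofAdd
    (dk A P ((g : Matrix.GeneralLinearGroup ι F) : Matrix ι ι F))) ?_, ?_⟩
  · intro g h
    rw [dk_mul Q A P hA hBP hPB g h, ofAdd_add]
  · intro u hu
    change Multiplicative.ofAdd (dk A P _) = _
    rw [dk_refl Q A P hA hBP hPB u hu]

variable [Fintype F]

/-- A product of reflections in the commutator subgroup has an even number of factors. -/
theorem even_of_mem_commutator [CharP F 2] (Q : QuadraticForm F (ι → F))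
    (hnd : ∀ x, (∀ y, QuadraticMap.polar ⇑Q x y = 0) → x = 0) (vs : List (ι → F))
    (hvs : ∀ v ∈ vs, Q v ≠ 0) (h : prodRefl Q vs ∈ commutator ↥(Cfsg.isometryGroup F ⇑Q)) :
    Even vs.length := by
  obtain ⟨D, hD⟩ := exists_dickson Q hnd
  have hval : ∀ ws : List (ι → F), (∀ v ∈ ws, Q v ≠ 0) →
      D (prodRefl Q ws) = Multiplicative.ofAdd (ws.length : F) := by
    intro ws
    induction ws with
    | nil =>
      intro _
      rw [prodRefl_nil, map_one]
      simp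
    | cons v ws ih =>
      intro hws
      rw [prodRefl_cons, map_mul, hD v (hws v (List.mem_cons_self ..)),
        ih (fun w hw => hws w (List.mem_cons_of_mem _ hw)), ← ofAdd_add, List.length_cons,
        Nat.cast_succ, add_comm]
  have hk : D (prodRefl Q vs) = 1 := (Abelianization.commutator_subset_ker D) h
  rw [hval vs hvs, ofAdd_eq_one] at hk
  exact even_iff_two_dvd.2 ((CharP.cast_eq_zero_iff F 2 _).1 hk)

/-- Even products of reflections lie in any subgroup containing the products of two. -/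
theorem even_prodRefl_mem (Q : QuadraticForm F (ι → F))
    (K : Subgroup ↥(Cfsg.isometryGroup F ⇑Q))
    (hK : ∀ a b, Q a ≠ 0 → Q b ≠ 0 → reflO Q a * reflO Q b ∈ K) :
    ∀ (n : ℕ) (vs : List (ι → F)), vs.length = 2 * n → (∀ v ∈ vs, Q v ≠ 0) →
      prodRefl Q vs ∈ K := by
  intro n
  induction n with
  | zero =>
    intro vs hlen _
    have hnil : vs = [] := List.length_eq_zero_iff.1 (by omega)
    rw [hnil, prodRefl_nil]
    exact K.one_mem
  | succ n ih =>
    intro vs hlen hvs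
    match vs, hlen, hvs with
    | [], hlen, _ => simp at hlen
    | [_], hlen, _ => simp at hlen; omega
    | a :: b :: ws, hlen, hvs =>
      rw [prodRefl_cons, prodRefl_cons, ← mul_assoc]
      refine K.mul_mem (hK a b (hvs a (by simp)) (hvs b (by simp))) (ih ws ?_ ?_)
      · simp only [List.length_cons] at hlen
        omega
      · intro v hv
        exact hvs v (by simp [hv])

omit [Fintype F] in
/-- Reflections in proportional vectors coincide. -/
theorem reflO_smul (Q : QuadraticForm F (ι → F)) (c : F) (hc : c ≠ 0) (u : ι → F)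
    (hu : Q u ≠ 0) : reflO Q (c • u) = reflO Q u := by
  have hcu : Q (c • u) ≠ 0 := by
    rw [QuadraticMap.map_smul, smul_eq_mul]
    exact mul_ne_zero (mul_ne_zero hc hc) hu
  apply act_ext
  intro x
  rw [act_reflO Q _ hcu, act_reflO Q _ hu, QuadraticMap.map_smul, QuadraticMap.polar_smul_left,
    smul_smul, smul_eq_mul, smul_eq_mul]
  congr 2
  field_simp

variable [CharP F 2]

/-- Witt's theorem for non-singular vectors in characteristic two. -/
theorem exists_move (Q : QuadraticForm F (ι → F))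
    (hnd : ∀ x, (∀ y, QuadraticMap.polar ⇑Q x y = 0) → x = 0)
    (h : Fintype.card F ≠ 2 ∨ Fintype.card ι ≠ 4) (u v : ι → F) (hQ : Q u = Q v)
    (hu : Q u ≠ 0) : ∃ g : ↥(Cfsg.isometryGroup F ⇑Q), act Q g u = v := by
  classical
  by_cases huv : u = v
  · exact ⟨1, by rw [act_one, huv]⟩
  by_cases hB : QuadraticMap.polar ⇑Q u v ≠ 0
  · obtain ⟨_, h2, _⟩ := move_b Q u v hQ hB
    exact ⟨_, h2⟩
  rw [not_not] at hB
  have hu0 : u ≠ 0 := by
    rintro rfl
    exact hu (map_zero Q)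
  have hv0 : v ≠ 0 := by
    rintro rfl
    rw [map_zero] at hQ
    exact hu hQ
  have hbot : ∀ x : ι → F, x ∈ perp Q ⊥ := by
    intro x
    rw [mem_perp]
    intro s hs
    rw [Submodule.mem_bot] at hs
    rw [hs]
    simp [QuadraticMap.polar]
  obtain ⟨z₀, _, hα, hβ⟩ := exists_z0 Q hnd ⊥ (splits_bot Q) u v (hbot u) (hbot v) hu0 hv0
  have hA : ∃ z, Q z ≠ 0 ∧ QuadraticMap.polar ⇑Q z u ≠ 0 ∧ QuadraticMap.polar ⇑Q z v ≠ 0 := by
    by_contra hA
    have hQz0 : Q z₀ = 0 := by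
      by_contra hz
      exact hA ⟨z₀, hz, hα, hβ⟩
    have hF2 : Fintype.card F = 2 := by
      by_contra hF
      obtain ⟨c, hc⟩ := exists_c Q hF u z₀ hu
      apply hA
      refine ⟨z₀ + c • u, hc, ?_, ?_⟩
      · rw [QuadraticMap.polar_add_left, QuadraticMap.polar_smul_left, polar_self0, smul_zero,
          add_zero]
        exact hα
      · rw [QuadraticMap.polar_add_left, QuadraticMap.polar_smul_left, hB, smul_zero, add_zero]
        exact hβ
    have hcard : Fintype.card ι ≠ 4 := by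
      rcases h with h | h
      · exact absurd hF2 h
      · exact h
    exact hA (exists_z_bot Q hnd hcard u v z₀ huv hQ hu hB hα hβ hQz0)
  obtain ⟨z, hQz, hzu, hzv⟩ := hA
  obtain ⟨d, _, h2, _⟩ := move_c Q u v z hQ hB hQz hzu hzv
  exact ⟨reflO Q d * reflO Q z, by rw [act_mul]; exact h2⟩

/-- In characteristic two the product of two reflections is a commutator. -/
theorem pair_mem_commutator (Q : QuadraticForm F (ι → F))
    (hnd : ∀ x, (∀ y, QuadraticMap.polar ⇑Q x y = 0) → x = 0)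
    (h : Fintype.card F ≠ 2 ∨ Fintype.card ι ≠ 4) (u v : ι → F) (hu : Q u ≠ 0) (hv : Q v ≠ 0) :
    reflO Q u * reflO Q v ∈ commutator ↥(Cfsg.isometryGroup F ⇑Q) := by
  obtain ⟨c, hc⟩ := FiniteField.isSquare_of_char_two (F := F)
    ((ringChar.eq_iff).2 inferInstance) (Q v / Q u)
  have hc0 : c ≠ 0 := by
    rintro rfl
    rw [mul_zero] at hc
    exact div_ne_zero hv hu hc
  have hQcu : Q (c • u) = Q v := by
    rw [QuadraticMap.map_smul, smul_eq_mul, ← hc, div_mul_cancel₀ _ hu]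
  have hcu : Q (c • u) ≠ 0 := by rw [hQcu]; exact hv
  obtain ⟨g, hg⟩ := exists_move Q hnd h (c • u) v hQcu hcu
  have hconj := conj_reflO Q g (c • u) hcu
  rw [← act_apply, hg, reflO_smul Q c hc0 u hu] at hconj
  rw [← hconj, commutator_def]
  have hcm := Subgroup.commutator_mem_commutator (Subgroup.mem_top (reflO Q u))
    (Subgroup.mem_top g)
  rw [commutatorElement_def] at hcm
  have hinv : (reflO Q u)⁻¹ = reflO Q u := inv_eq_of_mul_eq_one_right (reflO_mul_self Q u)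
  rw [hinv] at hcm
  have e : reflO Q u * (g * reflO Q u * g⁻¹) = reflO Q u * g * reflO Q u * g⁻¹ := by group
  rw [e]
  exact hcm

/-- **Parity criterion**: in characteristic two a product of reflections lies in the commutator
subgroup of the isometry group iff the number of factors is even. -/
theorem prodRefl_mem_commutator_iff (Q : QuadraticForm F (ι → F))
    (hnd : ∀ x, (∀ y, QuadraticMap.polar ⇑Q x y = 0) → x = 0)
    (h : Fintype.card F ≠ 2 ∨ Fintype.card ι ≠ 4) (vs : List (ι → F))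
    (hvs : ∀ v ∈ vs, Q v ≠ 0) :
    prodRefl Q vs ∈ commutator ↥(Cfsg.isometryGroup F ⇑Q) ↔ Even vs.length := by
  constructor
  · exact even_of_mem_commutator Q hnd vs hvs
  · rintro ⟨n, hn⟩
    exact even_prodRefl_mem Q _ (fun a b ha hb => pair_mem_commutator Q hnd h a b ha hb) n vs
      (by omega) hvs

end Hom



end Cfsg.Agent.Lib.Helper15.Dickson
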