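import Mathlib
import Cfsg.Agent.Lib.Helper15.WittInf
import Cfsg.Agent.Lib.Helper15.OrthGen
import Cfsg.Agent.Lib.Helper15.Dickson

/-!
# The rank of `g - 1` and the number of reflections

For an isometry `g` of a quadratic form with non-degenerate polar form and a reflection `r`,
the fixed spaces of `g` and `r g` differ in dimension by exactly one.  Hence the parity of
`rank (g - 1)` is the parity of the number of reflections in any expression of `g` as a product
of reflections; in characteristic two this is the Dickson invariant.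
-/

set_option autoImplicit false

namespace Cfsg.Agent.Lib.Helper15.RankParity

open Module Cfsg.Agent.Lib.Helper15.Spinor Cfsg.Agent.Lib.Helper15.CD2
  Cfsg.Agent.Lib.Helper15.Parity Cfsg.Agent.Lib.Helper15.Witt Cfsg.Agent.Lib.Helper15.WittInf

variable {F : Type*} [Field F] {ι : Type} [Fintype ι] [DecidableEq ι]

/-- The fixed space of an isometry. -/
noncomputable def fixSp (Q : QuadraticForm F (ι → F)) (g : ↥(Cfsg.isometryGroup F ⇑Q)) : Submodule F (ι → F) :=
  LinearMap.ker (act Q g - LinearMap.id)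

theorem mem_fixSp (Q : QuadraticForm F (ι → F)) (g : ↥(Cfsg.isometryGroup F ⇑Q)) (x : ι → F) :
    x ∈ fixSp Q g ↔ act Q g x = x := by
  unfold fixSp
  rw [LinearMap.mem_ker, LinearMap.sub_apply, LinearMap.id_apply, sub_eq_zero]

/-- The orthogonal complement of the image of `g - 1` is the fixed space of `g`. -/
theorem perp_range (Q : QuadraticForm F (ι → F))
    (hnd : ∀ x, (∀ y, QuadraticMap.polar ⇑Q x y = 0) → x = 0) (g : ↥(Cfsg.isometryGroup F ⇑Q)) :
    perp Q (LinearMap.range (act Q g - LinearMap.id)) = fixSp Q g := by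
  ext x
  rw [mem_perp, mem_fixSp]
  constructor
  · intro h
    have h0 : act Q g x - x = 0 := hnd _ (fun z => by
      have hz := h (act Q g (act Q g⁻¹ z) - act Q g⁻¹ z) ⟨act Q g⁻¹ z, rfl⟩
      rw [act_act_inv, QuadraticMap.polar_sub_right] at hz
      have h1 := act_polar Q g x (act Q g⁻¹ z)
      rw [act_act_inv] at h1
      rw [QuadraticMap.polar_sub_left, h1]
      linear_combination -hz)
    exact sub_eq_zero.1 h0
  · rintro h _ ⟨y, rfl⟩
    rw [LinearMap.sub_apply, LinearMap.id_apply, QuadraticMap.polar_sub_right]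
    have h1 := act_polar Q g x y
    rw [h] at h1
    rw [h1, sub_self]

/-- Multiplying by a reflection changes the dimension of the fixed space by exactly one. -/
theorem fix_step (Q : QuadraticForm F (ι → F))
    (hQ : (QuadraticMap.polarBilin Q).Nondegenerate) (g : ↥(Cfsg.isometryGroup F ⇑Q))
    (a : ι → F) (ha : Q a ≠ 0) :
    finrank F ↥(fixSp Q (reflO Q a * g)) = finrank F ↥(fixSp Q g) + 1 ∨
      finrank F ↥(fixSp Q (reflO Q a * g)) + 1 = finrank F ↥(fixSp Q g) := by
  classical
  have hnd : ∀ x, (∀ y, QuadraticMap.polar ⇑Q x y = 0) → x = 0 := fun x hx => hQ.1 x hx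
  obtain ⟨φ, hφ⟩ : ∃ φ : (ι → F) →ₗ[F] F, ∀ x, φ x = QuadraticMap.polar ⇑Q a x :=
    ⟨QuadraticMap.polarBilin Q a, fun x => rfl⟩
  have hr : ∀ x, act Q (reflO Q a) x = x - ((Q a)⁻¹ * QuadraticMap.polar ⇑Q a x) • a :=
    act_reflO Q a ha
  have h1 : fixSp Q g ⊓ LinearMap.ker φ = fixSp Q (reflO Q a * g) ⊓ LinearMap.ker φ := by
    ext x
    simp only [Submodule.mem_inf, mem_fixSp, LinearMap.mem_ker, hφ, act_mul]
    constructor
    · rintro ⟨hx, hax⟩
      refine ⟨?_, hax⟩
      rw [hx, act_reflO_fix Q a x hax]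
    · rintro ⟨hx, hax⟩
      refine ⟨?_, hax⟩
      have h2 : act Q (reflO Q a) (act Q (reflO Q a) (act Q g x)) = act Q (reflO Q a) x := by
        rw [hx]
      rw [← act_mul, reflO_mul_self, act_one, act_reflO_fix Q a x hax] at h2
      exact h2
  have h2a : fixSp Q g ≤ LinearMap.ker φ → ¬ (fixSp Q (reflO Q a * g) ≤ LinearMap.ker φ) := by
    intro hle hle'
    have ha_mem : a ∈ perp Q (fixSp Q g) := by
      rw [mem_perp]
      intro s hs
      have h3 := hle hs
      rw [LinearMap.mem_ker, hφ] at h3
      exact h3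
    rw [← perp_range Q hnd g, perp_perp Q hQ] at ha_mem
    obtain ⟨y, hy⟩ := ha_mem
    rw [LinearMap.sub_apply, LinearMap.id_apply] at hy
    have hgy : act Q g y = y + a := by rw [← hy]; abel
    have hpol : QuadraticMap.polar ⇑Q a y = - Q a := by
      have h3 := act_Q Q g y
      rw [hgy, QuadraticMap.map_add ⇑Q] at h3
      rw [QuadraticMap.polar_comm]
      linear_combination h3
    have hy_fix : y ∈ fixSp Q (reflO Q a * g) := by
      rw [mem_fixSp, act_mul, hgy, hr, QuadraticMap.polar_add_right, hpol, QuadraticMap.polar_self]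
      have e : (Q a)⁻¹ * (-Q a + 2 • Q a) = 1 := by
        rw [two_smul]
        field_simp
        ring
      rw [e, one_smul]
      abel
    have h4 := hle' hy_fix
    rw [LinearMap.mem_ker, hφ, hpol] at h4
    exact ha (neg_eq_zero.1 h4)
  have h2b : ¬ (fixSp Q g ≤ LinearMap.ker φ) → fixSp Q (reflO Q a * g) ≤ LinearMap.ker φ := by
    intro hnle x hx
    rw [mem_fixSp] at hx
    obtain ⟨x₀, hx₀, hx₀a⟩ := SetLike.not_le_iff_exists.1 hnle
    rw [mem_fixSp] at hx₀
    rw [LinearMap.mem_ker, hφ] at hx₀a ⊢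
    have h3 := act_polar Q (reflO Q a * g) x₀ x
    rw [hx, act_mul, hx₀, hr, QuadraticMap.polar_sub_left, QuadraticMap.polar_smul_left,
      smul_eq_mul] at h3
    have h4 : ((Q a)⁻¹ * QuadraticMap.polar ⇑Q a x₀) * QuadraticMap.polar ⇑Q a x = 0 := by
      linear_combination -h3
    rcases mul_eq_zero.1 h4 with h5 | h5
    · rcases mul_eq_zero.1 h5 with h6 | h6
      · exact absurd (inv_eq_zero.1 h6) ha
      · exact absurd h6 hx₀a
    · exact h5
  have e1 := finrank_inf_ker φ (fixSp Q g)
  have e2 := finrank_inf_ker φ (fixSp Q (reflO Q a * g))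
  rw [h1] at e1
  by_cases hle : fixSp Q g ≤ LinearMap.ker φ
  · rw [if_pos hle] at e1
    rw [if_neg (h2a hle)] at e2
    left
    omega
  · rw [if_neg hle] at e1
    rw [if_pos (h2b hle)] at e2
    right
    omega

omit [DecidableEq ι] in
theorem finrank_le_card (U : Submodule F (ι → F)) : finrank F ↥U ≤ Fintype.card ι := by
  have h := Submodule.finrank_le U
  rw [Module.finrank_fintype_fun_eq_card] at h
  exact h

/-- The codimension of the fixed space of a product of reflections has the parity of the number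
of reflections. -/
theorem fix_parity (Q : QuadraticForm F (ι → F))
    (hQ : (QuadraticMap.polarBilin Q).Nondegenerate) (vs : List (ι → F))
    (hvs : ∀ v ∈ vs, Q v ≠ 0) :
    Even (Fintype.card ι - finrank F ↥(fixSp Q (prodRefl Q vs))) ↔ Even vs.length := by
  induction vs with
  | nil =>
    have e : fixSp Q (prodRefl Q []) = ⊤ := by
      ext x
      simp [mem_fixSp, act_nil_inf]
    rw [e, finrank_top, Module.finrank_fintype_fun_eq_card]
    simp
  | cons v vs ih =>
    have hv := hvs v (List.mem_cons_self ..)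
    have ih' := ih (fun w hw => hvs w (List.mem_cons_of_mem _ hw))
    have hstep := fix_step Q hQ (prodRefl Q vs) v hv
    rw [prodRefl_cons_inf, List.length_cons]
    have h1 := finrank_le_card (fixSp Q (prodRefl Q vs))
    have h2 := finrank_le_card (fixSp Q (reflO Q v * prodRefl Q vs))
    rw [Nat.even_iff] at ih' ⊢
    rw [Nat.even_iff] at ih' ⊢
    omega

/-- The rank of `g - 1` is the codimension of the fixed space. -/
theorem rank_eq (Q : QuadraticForm F (ι → F)) (g : ↥(Cfsg.isometryGroup F ⇑Q)) :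
    (((g : Matrix.GeneralLinearGroup ι F) : Matrix ι ι F) - 1).rank
      = Fintype.card ι - finrank F ↥(fixSp Q g) := by
  have h := LinearMap.finrank_range_add_finrank_ker (act Q g - LinearMap.id)
  rw [Module.finrank_fintype_fun_eq_card] at h
  have e : Matrix.mulVecLin (((g : Matrix.GeneralLinearGroup ι F) : Matrix ι ι F) - 1)
      = act Q g - LinearMap.id := by
    apply LinearMap.ext
    intro x
    rw [Matrix.mulVecLin_apply, Matrix.sub_mulVec, Matrix.one_mulVec, LinearMap.sub_apply,
      LinearMap.id_apply, act_apply]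
  unfold Matrix.rank
  rw [e]
  unfold fixSp
  omega

/-- The rank of `g - 1` has the parity of the number of reflections. -/
theorem rank_parity (Q : QuadraticForm F (ι → F))
    (hQ : (QuadraticMap.polarBilin Q).Nondegenerate) (vs : List (ι → F))
    (hvs : ∀ v ∈ vs, Q v ≠ 0) :
    Even ((((prodRefl Q vs : ↥(Cfsg.isometryGroup F ⇑Q)) : Matrix.GeneralLinearGroup ι F) :
      Matrix ι ι F) - 1).rank ↔ Even vs.length := by
  rw [rank_eq, fix_parity Q hQ vs hvs]

/-- **Dickson invariant**: in characteristic two an isometry lies in the commutator subgroup of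
the orthogonal group exactly when `g - 1` has even rank. -/
theorem mem_commutator_iff_rank [Fintype F] [CharP F 2] (Q : QuadraticForm F (ι → F))
    (hQ : (QuadraticMap.polarBilin Q).Nondegenerate)
    (hc : Fintype.card F ≠ 2 ∨ Fintype.card ι ≠ 4) (g : ↥(Cfsg.isometryGroup F ⇑Q)) :
    g ∈ commutator ↥(Cfsg.isometryGroup F ⇑Q)
      ↔ Even (((g : Matrix.GeneralLinearGroup ι F) : Matrix ι ι F) - 1).rank := by
  have hnd : ∀ x, (∀ y, QuadraticMap.polar ⇑Q x y = 0) → x = 0 := fun x hx => hQ.1 x hx
  obtain ⟨vs, hvs, rfl⟩ := Cfsg.Agent.Lib.Helper15.OrthGen.cd_all Q hnd hc g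
  rw [Cfsg.Agent.Lib.Helper15.Dickson.prodRefl_mem_commutator_iff Q hnd hc vs hvs,
    rank_parity Q hQ vs hvs]

end Cfsg.Agent.Lib.Helper15.RankParity
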